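import Mathlib

/-!
# Sections of constant abelian sheaves
-/

universe u

set_option autoImplicit false
set_option linter.style.haveILetI false
set_option backward.isDefEq.respectTransparency false

open CategoryTheory Opposite Limits

namespace Groth.Agent.CstH1

variable {C : Type u} [SmallCategory C] {J : GrothendieckTopology C}

/-- The underlying sheaf of sets. -/
theorem isSheaf_forget (F : Sheaf J AddCommGrpCat.{u}) :
    Presieve.IsSheaf J (F.obj ⋙ CategoryTheory.forget AddCommGrpCat.{u}) :=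
  (isSheaf_iff_isSheaf_of_type J _).1
    ((Presheaf.isSheaf_iff_isSheaf_forget J F.obj (CategoryTheory.forget AddCommGrpCat.{u})).1 F.property)

/-- Sections agreeing locally are equal. -/
theorem ext_of_cover (F : Sheaf J AddCommGrpCat.{u}) {V : C} {R : Sieve V} (hR : R ∈ J V)
    {a b : F.obj.obj (op V)} (h : ∀ ⦃W : C⦄ (f : W ⟶ V), R f → F.obj.map f.op a = F.obj.map f.op b) :
    a = b :=
  (isSheaf_forget F R hR).isSeparatedFor.ext h

/-- Glueing along a covering sieve. -/
theorem exists_glue (F : Sheaf J AddCommGrpCat.{u}) {V : C} {R : Sieve V} (hR : R ∈ J V)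
    (x : ∀ ⦃W : C⦄ (f : W ⟶ V), R f → F.obj.obj (op W))
    (hx : ∀ ⦃W W' : C⦄ (f : W ⟶ V) (hf : R f) (g : W' ⟶ W),
      F.obj.map g.op (x f hf) = x (g ≫ f) (R.downward_closed hf g)) :
    ∃ e : F.obj.obj (op V), ∀ ⦃W : C⦄ (f : W ⟶ V) (hf : R f), F.obj.map f.op e = x f hf := by
  let y : Presieve.FamilyOfElements (F.obj ⋙ CategoryTheory.forget AddCommGrpCat.{u}) R.arrows :=
    fun W f hf => x f hf
  have hy : y.SieveCompatible := fun W W' f g hf => (hx f hf g).symm
  exact ⟨(isSheaf_forget F R hR).amalgamate y ((Presieve.compatible_iff_sieveCompatible y).2 hy),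
    fun W f hf => (isSheaf_forget F R hR).valid_glue _ f hf⟩

/-- The constant sheaf. -/
noncomputable abbrev cst (J : GrothendieckTopology C) (M : AddCommGrpCat.{u}) : Sheaf J AddCommGrpCat.{u} :=
  (constantSheaf J AddCommGrpCat.{u}).obj M

/-- The constant section. -/
noncomputable def η (J : GrothendieckTopology C) (M : AddCommGrpCat.{u}) (V : C) :
    M →+ (cst J M).obj.obj (op V) :=
  ((toSheafify J ((Functor.const Cᵒᵖ).obj M)).app (op V)).hom

theorem map_η {M : AddCommGrpCat.{u}} {V W : C} (f : W ⟶ V) (m : M) :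
    (cst J M).obj.map f.op (η J M V m) = η J M W m :=
  (NatTrans.naturality_apply (toSheafify J ((Functor.const Cᵒᵖ).obj M)) f.op m).symm

/-- Sections are locally constant. -/
theorem locally_η {M : AddCommGrpCat.{u}} {V : C} (s : (cst J M).obj.obj (op V)) :
    ∃ R ∈ J V, ∀ ⦃W : C⦄ (f : W ⟶ V), R f → ∃ m : M, η J M W m = (cst J M).obj.map f.op s :=
  ⟨_, Presheaf.imageSieve_mem J (toSheafify J ((Functor.const Cᵒᵖ).obj M)) s, fun _ _ hf => hf⟩

/-- Constants are equal, or the empty sieve covers. -/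
theorem η_inj {M : AddCommGrpCat.{u}} {V : C} {a b : M} (h : η J M V a = η J M V b) :
    a = b ∨ (⊥ : Sieve V) ∈ J V := by
  by_cases hab : a = b
  · exact Or.inl hab
  refine Or.inr (J.superset_covering ?_
    (Presheaf.equalizerSieve_mem J (toSheafify J ((Functor.const Cᵒᵖ).obj M)) (X := op V) a b h))
  intro W f hf
  exact (hab hf).elim

theorem subsingleton_of_bot (F : Sheaf J AddCommGrpCat.{u}) {V : C} (h : (⊥ : Sieve V) ∈ J V)
    (a b : F.obj.obj (op V)) : a = b :=
  ext_of_cover F h fun _ _ hf => hf.elim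

/-- The integers. -/
abbrev Z : AddCommGrpCat.{u} := AddCommGrpCat.of (ULift.{u} ℤ)

/-- The value of a morphism from the constant sheaf of integers. -/
noncomputable def val {F : Sheaf J AddCommGrpCat.{u}} (s : cst J Z ⟶ F) (V : C) : F.obj.obj (op V) :=
  s.hom.app (op V) (η J Z V ⟨1⟩)

theorem map_val {F : Sheaf J AddCommGrpCat.{u}} (s : cst J Z ⟶ F) {V W : C} (f : W ⟶ V) :
    F.obj.map f.op (val s V) = val s W := by
  rw [val, ← NatTrans.naturality_apply s.hom f.op, map_η]
  rfl

theorem val_comp {F G : Sheaf J AddCommGrpCat.{u}} (s : cst J Z ⟶ F) (p : F ⟶ G) (V : C) :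
    val (s ≫ p) V = p.hom.app (op V) (val s V) := rfl

theorem hom_ext {F : Sheaf J AddCommGrpCat.{u}} {s t : cst J Z ⟶ F} (h : ∀ V, val s V = val t V) : s = t := by
  apply ObjectProperty.hom_ext
  refine sheafify_hom_ext J s.hom t.hom F.property ?_
  refine NatTrans.ext (funext fun V => ?_)
  obtain ⟨V⟩ := V
  ext ⟨z⟩
  have hz : (⟨z⟩ : ULift.{u} ℤ) = z • ⟨1⟩ := by ext; simp
  show s.hom.app (op V) (η J Z V ⟨z⟩) = t.hom.app (op V) (η J Z V ⟨z⟩)
  rw [hz, map_zsmul, map_zsmul, map_zsmul]
  exact congrArg (z • ·) (h V)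

/-- A natural family of sections is a morphism. -/
theorem exists_hom {F : Sheaf J AddCommGrpCat.{u}} (e : ∀ V, F.obj.obj (op V))
    (he : ∀ ⦃V W : C⦄ (f : W ⟶ V), F.obj.map f.op (e V) = e W) : ∃ s : cst J Z ⟶ F, ∀ V, val s V = e V := by
  let ψ : (Functor.const Cᵒᵖ).obj (Z.{u}) ⟶ F.obj :=
    { app := fun V => AddCommGrpCat.ofHom ((zmultiplesHom _ (e V.unop)).comp AddEquiv.ulift.toAddMonoidHom)
      naturality := fun V W f => by
        ext ⟨z⟩
        show z • e W.unop = F.obj.map f (z • e V.unop)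
        rw [map_zsmul]
        exact congrArg (z • ·) (he f.unop).symm }
  refine ⟨((sheafificationAdjunction J AddCommGrpCat.{u}).homEquiv _ F).symm ψ, fun V => ?_⟩
  have := congrArg (fun τ => τ.app (op V) (ULift.up.{u} (1 : ℤ)))
    (((sheafificationAdjunction J AddCommGrpCat.{u}).homEquiv _ F).apply_symm_apply ψ)
  rw [Adjunction.homEquiv_unit] at this
  exact this.trans (one_zsmul (e V))

end Groth.Agent.CstH1
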