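import Groth.Agent.CstH1.Const

/-!
# Torsion-freeness of `H¹` of a constant sheaf
-/

universe u

set_option autoImplicit false
set_option linter.style.haveILetI false
set_option backward.isDefEq.respectTransparency false

open CategoryTheory Opposite Limits

namespace Groth.Agent.CstH1

variable {C : Type u} [SmallCategory C] {J : GrothendieckTopology C} {A : Type u} [AddCommGroup A]

/-- A representative modulo `m`. -/
noncomputable def rep (m : ℤ) (a : A) : A :=
  Quotient.out (QuotientAddGroup.mk a : A ⧸ (zsmulAddGroupHom (α := A) m).range)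

theorem rep_mem (m : ℤ) (a : A) : ∃ b : A, a = rep m a + m • b := by
  have h : (QuotientAddGroup.mk a : A ⧸ (zsmulAddGroupHom (α := A) m).range) = QuotientAddGroup.mk (rep m a) :=
    (QuotientAddGroup.out_eq' _).symm
  obtain ⟨b, hb⟩ := QuotientAddGroup.eq_iff_sub_mem.1 h
  exact ⟨b, by rw [zsmulAddGroupHom_apply] at hb; rw [hb]; abel⟩

theorem rep_eq (m : ℤ) {a a' c : A} (h : rep m a - rep m a' = m • c) : rep m a = rep m a' := by
  have h1 : ∀ x : A, (QuotientAddGroup.mk (rep m x) : A ⧸ (zsmulAddGroupHom (α := A) m).range) = QuotientAddGroup.mk x :=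
    fun x => QuotientAddGroup.out_eq' _
  have h2 : (QuotientAddGroup.mk a : A ⧸ (zsmulAddGroupHom (α := A) m).range) = QuotientAddGroup.mk a' := by
    rw [← h1 a, ← h1 a', QuotientAddGroup.eq_iff_sub_mem, h]
    exact ⟨c, rfl⟩
  rw [rep, h2]
  rfl

variable {I Q : Sheaf J AddCommGrpCat.{u}} (f : cst J (AddCommGrpCat.of A) ⟶ I) (p : I ⟶ Q)
  (s : cst J Z ⟶ I) (g : cst J Z ⟶ Q) {ι : Type u} (U : ι → C) (n : ι → ℤ)

/-- Normalised local lifts. -/
def Ok {V : C} (e : I.obj.obj (op V)) : Prop :=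
  ∃ (i : ι) (_ : V ⟶ U i) (a : A), val s V - n i • e = f.hom.app (op V) (η J _ V (rep (n i) a))

theorem ok_map {V W : C} (h : W ⟶ V) {e : I.obj.obj (op V)} (he : Ok f s U n e) :
    Ok f s U n (I.obj.map h.op e) := by
  obtain ⟨i, k, a, ha⟩ := he
  refine ⟨i, h ≫ k, a, ?_⟩
  have := congrArg (fun x => I.obj.map h.op x) ha
  simp only [map_sub, map_zsmul, map_val, ← NatTrans.naturality_apply f.hom h.op] at this
  rwa [map_η] at this

/-- The sieve where a section is normalised. -/
def okSieve {V : C} (e : I.obj.obj (op V)) : Sieve V where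
  arrows W h := Ok f s U n (I.obj.map h.op e)
  downward_closed {W W'} h he k := by
    have := ok_map f s U n k he
    rw [← ConcreteCategory.comp_apply, ← Functor.map_comp, ← op_comp] at this
    exact this

/-- Good lifts of the value of `g`. -/
def Good {V : C} (e : I.obj.obj (op V)) : Prop :=
  p.hom.app (op V) e = val g V ∧ okSieve f s U n e ∈ J V

theorem good_map {V W : C} (h : W ⟶ V) {e : I.obj.obj (op V)} (he : Good f p s g U n e) :
    Good f p s g U n (I.obj.map h.op e) := by
  refine ⟨by rw [NatTrans.naturality_apply p.hom h.op, he.1, map_val], ?_⟩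
  refine J.superset_covering (fun W' k hk => ?_) (J.pullback_stable h he.2)
  show Ok f s U n (I.obj.map k.op (I.obj.map h.op e))
  rw [← ConcreteCategory.comp_apply, ← Functor.map_comp, ← op_comp]
  exact hk

variable (φ : cst J Z ⟶ cst J Z) (hn : ∀ i, n i ≠ 0)
  (hA : ∀ (m : ℤ) (a : A), m ≠ 0 → m • a = 0 → a = 0)
  (hφ : ∀ (i : ι) (V : C) (_ : V ⟶ U i), φ.hom.app (op V) = n i • 𝟙 _)
  (hinj : ∀ (V : C), Function.Injective (f.hom.app (op V)))
  (hex : ∀ (V : C) (d : I.obj.obj (op V)), p.hom.app (op V) d = 0 → ∃ c, f.hom.app (op V) c = d)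

omit A in
include hφ in
theorem val_phi {V : C} (i : ι) (k : V ⟶ U i) : val φ V = n i • η J Z V ⟨1⟩ := by
  rw [val, hφ i V k]
  show (AddCommGrpCat.Hom.hom (n i • 𝟙 _)) _ = _
  rw [AddCommGrpCat.hom_zsmul]
  rfl

include φ hn hA hφ hinj hex in
/-- Good lifts are unique. -/
theorem good_unique {V : C} {e e' : I.obj.obj (op V)} (h : Good f p s g U n e) (h' : Good f p s g U n e') :
    e = e' := by
  obtain ⟨c, hc⟩ := hex V (e - e') (by rw [map_sub, h.1, h'.1, sub_self])
  obtain ⟨R, hR, hRc⟩ := locally_η c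
  refine ext_of_cover I (J.intersection_covering (J.intersection_covering h.2 h'.2) hR) ?_
  rintro W k ⟨⟨⟨i, ki, a, ha⟩, ⟨j, kj, b, hb⟩⟩, hk⟩
  obtain ⟨c₀, hc₀⟩ := hRc k hk
  have hij : n i = n j ∨ (⊥ : Sieve W) ∈ J W := by
    have h1 := (val_phi U n φ hφ i ki).symm.trans (val_phi U n φ hφ j kj)
    rw [← map_zsmul, ← map_zsmul] at h1
    refine (η_inj h1).imp_left fun h2 => ?_
    simpa using congrArg ULift.down h2
  rcases hij with hij | hbot
  swap
  · exact subsingleton_of_bot I hbot _ _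
  have hd : I.obj.map k.op e - I.obj.map k.op e' = f.hom.app (op W) (η J _ W c₀) := by
    rw [← map_sub, ← hc, ← NatTrans.naturality_apply f.hom k.op, hc₀]
  have h3 : f.hom.app (op W) (η J _ W (rep (n j) b - rep (n i) a)) = f.hom.app (op W) (η J _ W (n i • c₀)) := by
    rw [map_sub, map_sub, ← ha, ← hb, map_zsmul, map_zsmul, ← hd, hij]
    simp only [zsmul_sub]
    abel
  rcases η_inj (hinj W h3) with h4 | hbot
  swap
  · exact subsingleton_of_bot I hbot _ _
  rw [hij] at h4
  have h5 := rep_eq (n j) h4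
  rw [h5, sub_self] at h4
  have h6 := hA _ _ (hn j) h4.symm
  rw [h6, map_zero, map_zero, sub_eq_zero] at hd
  exact hd

include φ hn hA hφ hinj hex in
/-- A lift of `g` exists. -/
theorem exists_lift [Presheaf.IsLocallySurjective J p.hom] (hfp : f ≫ p = 0) (hsg : s ≫ p = φ ≫ g)
    (hcov : ∀ V : C, ∃ R ∈ J V, ∀ ⦃W : C⦄ (h : W ⟶ V), R h → ∃ i, Nonempty (W ⟶ U i)) :
    ∃ e : cst J Z ⟶ I, e ≫ p = g := by
  classical
  let G : ∀ V : C, Sieve V := fun V =>
    { arrows := fun W _ => ∃ e : I.obj.obj (op W), Good f p s g U n e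
      downward_closed := fun ⟨e, he⟩ k => ⟨_, good_map f p s g U n k he⟩ }
  have hG : ∀ V, G V ∈ J V := fun V => by
    obtain ⟨R, hR, hRU⟩ := hcov V
    refine J.transitive (J.intersection_covering hR (Presheaf.imageSieve_mem J p.hom (val g V))) _ ?_
    rintro W k ⟨hk, ⟨e₀, he₀⟩⟩
    obtain ⟨i, ⟨ki⟩⟩ := hRU k hk
    rw [map_val] at he₀
    obtain ⟨c, hc⟩ := hex W (val s W - n i • e₀) (by
      rw [map_sub, map_zsmul, he₀, ← val_comp, hsg, val_comp, val_phi U n φ hφ i ki, map_zsmul]
      exact sub_self _)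
    obtain ⟨R', hR', hR'c⟩ := locally_η c
    refine J.superset_covering (fun W' k' hk' => ?_) hR'
    obtain ⟨c₀, hc₀⟩ := hR'c k' hk'
    obtain ⟨b, hb⟩ := rep_mem (n i) c₀
    refine ⟨I.obj.map k'.op e₀ + f.hom.app (op W') (η J _ W' b), ?_, ?_⟩
    · have hz : p.hom.app (op W') (f.hom.app (op W') (η J _ W' b)) = 0 := by
        show (f ≫ p).hom.app (op W') _ = 0
        rw [hfp]
        rfl
      rw [map_add, hz, add_zero, NatTrans.naturality_apply p.hom k'.op, he₀, map_val]
    · refine J.superset_covering (fun W'' k'' _ => ?_) (J.top_mem W')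
      refine ok_map f s U n k'' ⟨i, k' ≫ ki, c₀, ?_⟩
      have h1 : f.hom.app (op W') (η J _ W' c₀) = val s W' - n i • I.obj.map k'.op e₀ := by
        rw [hc₀, NatTrans.naturality_apply f.hom k'.op, hc, map_sub, map_zsmul, map_val]
      have h2 : f.hom.app (op W') (η J _ W' c₀) =
          f.hom.app (op W') (η J _ W' (rep (n i) c₀)) + n i • f.hom.app (op W') (η J _ W' b) := by
        conv_lhs => rw [hb]
        rw [map_add, map_add, map_zsmul, map_zsmul]
      rw [smul_add, ← sub_sub, ← h1, h2, add_sub_cancel_right]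
  have hex' : ∀ V, ∃ e : I.obj.obj (op V), Good f p s g U n e := fun V => by
    obtain ⟨e, he⟩ := exists_glue I (hG V) (fun W k hk => Exists.choose hk) fun W W' k hk k' =>
      good_unique f p s g U n φ hn hA hφ hinj hex (good_map f p s g U n k' (Exists.choose_spec hk))
        (Exists.choose_spec _)
    refine ⟨e, ext_of_cover Q (hG V) fun W k hk => ?_, J.transitive (hG V) _ fun W k hk => ?_⟩
    · rw [← NatTrans.naturality_apply p.hom k.op, he k hk, map_val]
      exact (Exists.choose_spec hk).1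
    · refine J.superset_covering (fun W' k' hk' => ?_) (Exists.choose_spec hk).2
      show Ok f s U n (I.obj.map (k' ≫ k).op e)
      rw [op_comp, Functor.map_comp, ConcreteCategory.comp_apply, he k hk]
      exact hk'
  choose e he using hex'
  obtain ⟨E, hE⟩ := exists_hom e fun V W k =>
    good_unique f p s g U n φ hn hA hφ hinj hex (good_map f p s g U n k (he V)) (he W)
  exact ⟨E, hom_ext fun V => by rw [val_comp, hE, (he V).1]⟩

end Groth.Agent.CstH1
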